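import Cfsg.Agent.S4198
import Cfsg.Agent.S4200
import Cfsg.Agent.S4201
import Mathlib

/-!
A permutation group of degree `n` has at most `5 ^ (n - 1)` classes: blocks and Bochert's lemma.
-/

set_option autoImplicit false
set_option linter.style.haveILetI false
set_option linter.unusedSectionVars false

open Equiv MulAction
open scoped Pointwise

namespace CfsgLib.ClassBound

variable {α : Type} [Fintype α] [DecidableEq α]

/-- The bound in degree `n`. -/
def Bnd (n : ℕ) : Prop :=
  ∀ (β : Type) [Fintype β], Fintype.card β = n → ∀ G : Subgroup (Perm β),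
    Nat.card (ConjClasses G) ≤ 5 ^ (n - 1)

theorem card_classes_congr {X Y : Type*} [Group X] [Group Y] (e : X ≃* Y) :
    Nat.card (ConjClasses X) = Nat.card (ConjClasses Y) :=
  Nat.card_congr ⟨ConjClasses.map e.toMonoidHom, ConjClasses.map e.symm.toMonoidHom,
    fun c => by
      induction c using Quotient.inductionOn with
      | h a => exact congrArg ConjClasses.mk (e.symm_apply_apply a),
    fun c => by
      induction c using Quotient.inductionOn with
      | h a => exact congrArg ConjClasses.mk (e.apply_symm_apply a)⟩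

theorem le_of_injective {X : Type*} [Group X] {β : Type} [Fintype β] {n : ℕ} (h : Bnd n)
    (hn : Fintype.card β = n) (f : X →* Perm β) (hf : Function.Injective f) :
    Nat.card (ConjClasses X) ≤ 5 ^ (n - 1) := by
  rw [card_classes_congr (MonoidHom.ofInjective hf)]
  exact h β hn _

/-- Fibres of an invariant map. -/
theorem le_of_invariant {ι : Type} [Fintype ι] [DecidableEq ι] :
    ∀ (n : ℕ), ∀ (α : Type) [Fintype α] [DecidableEq α], Fintype.card α = n → ∀ (c : α → ι),
    (∀ m, (∃ i, m = Fintype.card {x // c x = i}) → Bnd m) → ∀ (s : Finset ι), (∀ x, c x ∈ s) →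
    (∀ i ∈ s, ∃ x, c x = i) → ∀ G : Subgroup (Perm α), (∀ g ∈ G, ∀ x, c (g x) = c x) →
    Nat.card (ConjClasses G) ≤ 5 ^ (n - s.card) := by
  intro n
  induction n using Nat.strong_induction_on with
  | _ n ih =>
  intro α _ _ hn c hB s hc hs G hG
  rcases s.eq_empty_or_nonempty with rfl | ⟨i, hi⟩
  · haveI : IsEmpty α := ⟨fun x => absurd (hc x) (Finset.notMem_empty _)⟩
    haveI : Subsingleton G := inferInstance
    haveI : Subsingleton (ConjClasses G) := Quotient.instSubsingletonQuotient _
    exact (Finite.card_le_one_iff_subsingleton.mpr ‹_›).trans (Nat.one_le_pow _ _ (by norm_num))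
  let f : G →* Perm {x // c x = i} :=
    { toFun := fun g => (g : Perm α).subtypePerm fun x => by rw [hG g g.2 x]
      map_one' := by ext x; rfl
      map_mul' := fun g h => by ext x; rfl }
  let k : f.ker →* Perm {x // ¬ c x = i} :=
    { toFun := fun g => ((g : G) : Perm α).subtypePerm fun x => by rw [hG (g : G) (g : G).2 x]
      map_one' := by ext x; rfl
      map_mul' := fun g h => by ext x; rfl }
  have hk : Function.Injective k := by
    intro g h e
    refine Subtype.ext (Subtype.ext (Equiv.ext fun x => ?_))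
    by_cases hx : c x = i
    · have h1 := congrArg Subtype.val (Equiv.congr_fun (MonoidHom.mem_ker.mp g.2) ⟨x, hx⟩)
      have h2 := congrArg Subtype.val (Equiv.congr_fun (MonoidHom.mem_ker.mp h.2) ⟨x, hx⟩)
      exact h1.trans h2.symm
    · exact congrArg Subtype.val (Equiv.congr_fun e ⟨x, hx⟩)
  obtain ⟨x₀, hx₀⟩ := hs i hi
  set a := Fintype.card {x // c x = i} with ha
  have ha1 : 1 ≤ a := Fintype.card_pos_iff.mpr ⟨⟨x₀, hx₀⟩⟩
  have han : a ≤ n := hn ▸ Fintype.card_subtype_le _
  have hb : Fintype.card {x // ¬ c x = i} = n - a := by rw [Fintype.card_subtype_compl, hn]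
  have h1 : Nat.card (ConjClasses f.ker) ≤ 5 ^ (n - a - (s.erase i).card) := by
    rw [card_classes_congr (MonoidHom.ofInjective hk)]
    refine ih (n - a) (by omega) _ hb (fun x => c x.1) (fun m ⟨j, hj⟩ => ?_) (s.erase i)
      (fun x => Finset.mem_erase.mpr ⟨x.2, hc _⟩) (fun j hj => ?_) _ ?_
    · by_cases hji : j = i
      · intro β _ hβ H
        have hm0 : m = 0 := by
          rw [hj, Fintype.card_eq_zero_iff]
          exact ⟨fun x => x.1.2 (x.2.trans hji)⟩
        haveI : IsEmpty β := Fintype.card_eq_zero_iff.mp (hβ.trans hm0)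
        haveI : Subsingleton (ConjClasses H) := Quotient.instSubsingletonQuotient _
        exact (Finite.card_le_one_iff_subsingleton.mpr ‹_›).trans (Nat.one_le_pow _ _ (by norm_num))
      · refine hB m ⟨j, hj.trans (Fintype.card_congr
          ((Equiv.subtypeSubtypeEquivSubtypeInter _ (fun x => c x = j)).trans
            (Equiv.subtypeEquivRight fun x => ⟨fun h => h.2, fun h => ⟨h ▸ hji, h⟩⟩)))⟩
    · obtain ⟨x, hx⟩ := hs j (Finset.mem_of_mem_erase hj)
      exact ⟨⟨x, hx ▸ (Finset.mem_erase.mp hj).1⟩, hx⟩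
    · rintro _ ⟨g, rfl⟩ x
      exact hG _ (g : G).2 x.1
  have h2 : Nat.card (ConjClasses f.range) ≤ 5 ^ (a - 1) := hB a ⟨i, rfl⟩ _ rfl _
  have hle : (s.erase i).card ≤ n - a := by
    rw [← hb]
    refine Nat.le_trans (Finset.card_le_card (t := (Finset.univ : Finset {x // ¬ c x = i}).image fun x => c x.1) ?_)
      Finset.card_image_le
    intro j hj
    obtain ⟨x, hx⟩ := hs j (Finset.mem_of_mem_erase hj)
    exact Finset.mem_image.mpr ⟨⟨x, hx ▸ (Finset.mem_erase.mp hj).1⟩, Finset.mem_univ _, hx⟩
  calc Nat.card (ConjClasses G) ≤ Nat.card (ConjClasses f.ker) * Nat.card (ConjClasses (G ⧸ f.ker)) :=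
        Cfsg.Agent.S4201.result f.ker
    _ = Nat.card (ConjClasses f.ker) * Nat.card (ConjClasses f.range) := by
        rw [card_classes_congr (QuotientGroup.quotientKerEquivRange f)]
    _ ≤ 5 ^ (n - a - (s.erase i).card) * 5 ^ (a - 1) := Nat.mul_le_mul h1 h2
    _ = 5 ^ (n - s.card) := by
        rw [← pow_add]
        congr 1
        have := Finset.card_erase_of_mem hi
        have : 1 ≤ s.card := Finset.card_pos.mpr ⟨i, hi⟩
        have : a ≤ n := hn ▸ Fintype.card_subtype_le _
        omega

/-- Two permutations whose supports meet in one point have a three-cycle as commutator. -/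
theorem isThreeCycle_of_meet {g h : Perm α} {b : α} (hg : g b ≠ b) (hh : h b ≠ b)
    (hmeet : ∀ x, g x ≠ x → h x ≠ x → x = b) : (g * h * g⁻¹ * h⁻¹).IsThreeCycle := by
  have hG : ∀ {x}, h x ≠ x → x ≠ b → g x = x := fun hx hxb => by
    by_contra h'
    exact hxb (hmeet _ h' hx)
  have hH : ∀ {x}, g x ≠ x → x ≠ b → h x = x := fun hx hxb => by
    by_contra h'
    exact hxb (hmeet _ hx h')
  have hi : ∀ {f : Perm α} {x}, f x = x → f⁻¹ x = x := fun {f x} e => by
    rw [Perm.inv_eq_iff_eq]; exact e.symm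
  have him : ∀ {f : Perm α} {x}, f x ≠ x → f (f x) ≠ f x := fun hx e => hx (Equiv.injective _ e)
  have hgi : g (g⁻¹ b) = b := g.apply_symm_apply b
  have hhi : h (h⁻¹ b) = b := h.apply_symm_apply b
  have hgib : g (g⁻¹ b) ≠ g⁻¹ b := by
    rw [hgi]; intro e; exact hg (by conv_lhs => rw [e]; rw [hgi])
  have hhib : h (h⁻¹ b) ≠ h⁻¹ b := by
    rw [hhi]; intro e; exact hh (by conv_lhs => rw [e]; rw [hhi])
  have hgne : g⁻¹ b ≠ b := fun e => hgib (by rw [hgi, e])
  have hhne : h⁻¹ b ≠ b := fun e => hhib (by rw [hhi, e])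
  set c := g * h * g⁻¹ * h⁻¹ with hc
  have e1 : c b = g b := by
    show g (h (g⁻¹ (h⁻¹ b))) = _
    rw [hi (hG hhib hhne), hhi]
  have e2 : c (g b) = h b := by
    show g (h (g⁻¹ (h⁻¹ (g b)))) = _
    rw [hi (hH (him hg) hg), show g⁻¹ (g b) = b from g.symm_apply_apply b, hG (him hh) hh]
  have e3 : c (h b) = b := by
    show g (h (g⁻¹ (h⁻¹ (h b)))) = _
    rw [show h⁻¹ (h b) = b from h.symm_apply_apply b, hH hgib hgne, hgi]
  have hne : g b ≠ h b := fun e => hg (hmeet _ (him hg) (by rw [e]; exact him hh))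
  have hsupp : c.support = {b, g b, h b} := by
    refine Finset.Subset.antisymm (fun x hx => ?_) ?_
    · rw [Perm.mem_support] at hx
      by_contra hxs
      simp only [Finset.mem_insert, Finset.mem_singleton, not_or] at hxs
      obtain ⟨hxb, hxg, hxh⟩ := hxs
      apply hx
      show g (h (g⁻¹ (h⁻¹ x))) = x
      by_cases hhx : h x = x
      · rw [hi hhx]
        by_cases hgx : g x = x
        · rw [hi hgx, hhx, hgx]
        · have hy : g (g⁻¹ x) ≠ g⁻¹ x := by
            rw [show g (g⁻¹ x) = x from g.apply_symm_apply x]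
            intro e; exact hgx (by conv_lhs => rw [e]; rw [show g (g⁻¹ x) = x from g.apply_symm_apply x])
          rw [hH hy (fun e => hxg (by rw [← e, show g (g⁻¹ x) = x from g.apply_symm_apply x]))]
          exact g.apply_symm_apply x
      · have hy : h (h⁻¹ x) ≠ h⁻¹ x := by
          rw [show h (h⁻¹ x) = x from h.apply_symm_apply x]
          intro e; exact hhx (by conv_lhs => rw [e]; rw [show h (h⁻¹ x) = x from h.apply_symm_apply x])
        rw [hi (hG hy (fun e => hxh (by rw [← e, show h (h⁻¹ x) = x from h.apply_symm_apply x]))),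
          show h (h⁻¹ x) = x from h.apply_symm_apply x, hG hhx hxb]
    · intro x hx
      simp only [Finset.mem_insert, Finset.mem_singleton] at hx
      rw [Perm.mem_support]
      rcases hx with rfl | rfl | rfl
      · rw [e1]; exact hg
      · rw [e2]; exact hne.symm
      · rw [e3]; exact hh.symm
  rw [← card_support_eq_three_iff, hsupp, Finset.card_insert_of_notMem, Finset.card_pair hne]
  simp only [Finset.mem_insert, Finset.mem_singleton, not_or]
  exact ⟨hg.symm, hh.symm⟩

/-- Bochert: a primitive group not containing the alternating group has a small set with trivial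
pointwise stabiliser. -/
theorem exists_base {G : Subgroup (Perm α)} (hG : IsPreprimitive G α) (hA : ¬ alternatingGroup α ≤ G) :
    ∃ B : Finset α, 2 * B.card ≤ Fintype.card α ∧ ∀ g ∈ G, (∀ x ∈ B, g x = x) → g = 1 := by
  classical
  let S := Finset.univ.filter fun B : Finset α => ∀ g ∈ G, (∀ x ∈ B, g x = x) → g = 1
  have hne : S.Nonempty := ⟨Finset.univ, by
    simp only [S, Finset.mem_filter, Finset.mem_univ, true_and]
    exact fun g _ h => Equiv.ext fun x => h x trivial⟩
  obtain ⟨B, hBS, hmin⟩ := S.exists_min_image Finset.card hne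
  simp only [S, Finset.mem_filter, Finset.mem_univ, true_and] at hBS hmin
  refine ⟨B, ?_, hBS⟩
  by_contra hlt
  have hcompl : ¬ ∀ g ∈ G, (∀ x ∈ Bᶜ, g x = x) → g = 1 := fun h => by
    have := hmin Bᶜ h
    rw [Finset.card_compl] at this
    omega
  push Not at hcompl
  obtain ⟨g, hgG, hgC, hg1⟩ := hcompl
  obtain ⟨b, hb⟩ : ∃ b, g b ≠ b := by
    by_contra hno
    push Not at hno
    exact hg1 (Equiv.ext hno)
  have hbB : b ∈ B := by
    by_contra h
    exact hb (hgC b (Finset.mem_compl.mpr h))
  have hers : ¬ ∀ h ∈ G, (∀ x ∈ B.erase b, h x = x) → h = 1 := fun h => by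
    have := hmin _ h
    rw [Finset.card_erase_of_mem hbB] at this
    have := Finset.card_pos.mpr ⟨b, hbB⟩
    omega
  push Not at hers
  obtain ⟨h, hhG, hhB, hh1⟩ := hers
  have hhb : h b ≠ b := fun e => hh1 (hBS h hhG fun x hx => by
    by_cases hxb : x = b
    · rw [hxb, e]
    · exact hhB x (Finset.mem_erase.mpr ⟨hxb, hx⟩))
  refine hA (Perm.alternatingGroup_le_of_isPreprimitive_of_isThreeCycle_mem hG
    (isThreeCycle_of_meet hb hhb fun x hgx hhx => ?_)
    (G.mul_mem (G.mul_mem (G.mul_mem hgG hhG) (G.inv_mem hgG)) (G.inv_mem hhG)))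
  by_contra hxb
  by_cases hxB : x ∈ B
  · exact hhx (hhB x (Finset.mem_erase.mpr ⟨hxb, hxB⟩))
  · exact hgx (hgC x (Finset.mem_compl.mpr hxB))

/-- The bound. -/
theorem bnd (n : ℕ) : Bnd n := by
  classical
  induction n using Nat.strong_induction_on with
  | _ n ih =>
  intro α _ hn G
  haveI : Finite G := inferInstance
  rcases Nat.lt_or_ge n 5 with hsmall | hn5
  · refine (Nat.card_le_card_of_surjective _ ConjClasses.mk_surjective).trans ?_
    refine (Nat.le_of_dvd Nat.card_pos (Subgroup.card_subgroup_dvd_card G)).trans ?_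
    rw [Nat.card_perm, Nat.card_eq_fintype_card, hn]
    interval_cases n <;> decide
  haveI hne : Nonempty α := Fintype.card_pos_iff.mp (by omega)
  by_cases htr : IsPretransitive G α
  swap
  · -- orbits
    let ι := MulAction.orbitRel.Quotient G α
    haveI : Fintype ι := Fintype.ofFinite _
    let c : α → ι := Quotient.mk _
    have hι : 2 ≤ Fintype.card ι := by
      by_contra h
      refine htr ?_
      haveI : Subsingleton ι := Fintype.card_le_one_iff_subsingleton.mp (by omega)
      exact MulAction.pretransitive_iff_subsingleton_quotient G α |>.mpr ‹_›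
    have hb := le_of_invariant (ι := ι) n α hn c (fun m ⟨i, hi⟩ => ih m (by
        rw [hi, ← hn]
        obtain ⟨j, hj⟩ := Fintype.exists_ne_of_one_lt_card (by omega : 1 < Fintype.card ι) i
        obtain ⟨x, rfl⟩ := Quotient.exists_rep j
        exact Fintype.card_subtype_lt (x := x) hj))
      Finset.univ (fun x => Finset.mem_univ _) (fun i _ => Quotient.exists_rep i) G
      fun g hg x => Quotient.sound ⟨⟨g, hg⟩, rfl⟩
    refine hb.trans (Nat.pow_le_pow_right (by norm_num) ?_)
    rw [Finset.card_univ]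
    omega
  by_cases hpr : IsPreprimitive G α
  · by_cases hA : alternatingGroup α ≤ G
    · have hidx : G.index ≤ 2 := by
        refine Nat.le_of_dvd (by norm_num) ((Subgroup.index_dvd_of_le hA).trans ?_)
        haveI : Nontrivial α := Fintype.one_lt_card_iff_nontrivial.mp (by omega)
        rw [alternatingGroup.index_eq_two]
      have h1 := (Cfsg.Agent.S4200.result G).1
      have h2 : Nat.card (ConjClasses (Perm α)) ≤ 2 ^ (n - 2) := by
        rw [card_classes_congr (Fintype.equivFinOfCardEq hn).permCongrHom]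
        exact (Cfsg.Agent.S4198.result n hn5).2
      calc Nat.card (ConjClasses G) ≤ 2 * 2 ^ (n - 2) := h1.trans (Nat.mul_le_mul hidx h2)
        _ = 2 ^ (n - 1) := by rw [← pow_succ']; congr 1; omega
        _ ≤ 5 ^ (n - 1) := Nat.pow_le_pow_left (by norm_num) _
    obtain ⟨B, hB2, hBtriv⟩ := exists_base hpr hA
    let H : Subgroup G := MulAction.stabilizer G (B : Set α)
    have hH : ∀ (g : H) (x : α), ((g : G) : Perm α) x ∈ B ↔ x ∈ B := fun g x => by
      have h1 : ((g : G) • (B : Set α)) = B := g.2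
      have h2 : (g : G) • x ∈ (g : G) • (B : Set α) ↔ x ∈ (B : Set α) := Set.smul_mem_smul_set_iff
      rw [h1] at h2
      exact h2
    let f : H →* Perm {x // x ∈ B} :=
      { toFun := fun g => ((g : G) : Perm α).subtypePerm fun x => hH g x
        map_one' := by ext x; rfl
        map_mul' := fun g h => by ext x; rfl }
    have hf : Function.Injective f := by
      rw [injective_iff_map_eq_one]
      intro g hg
      exact Subtype.ext (Subtype.ext (hBtriv _ (g : G).2 fun x hx =>
        congrArg Subtype.val (Equiv.congr_fun hg ⟨x, hx⟩)))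
    have h1 := le_of_injective (ih B.card (by omega)) (Fintype.card_coe B) f hf
    have h2 : H.index ≤ 2 ^ n := by
      rw [MulAction.index_stabilizer]
      refine (Set.ncard_le_ncard (Set.subset_univ _) (Set.toFinite _)).trans (le_of_eq ?_)
      rw [Set.ncard_univ, Nat.card_eq_fintype_card, Fintype.card_set, hn]
    have h3 := (Cfsg.Agent.S4200.result H).2.1
    refine h3.trans ((Nat.mul_le_mul h2 h1).trans ?_)
    rcases Nat.eq_zero_or_pos B.card with h0 | h0
    · rw [h0]
      calc 2 ^ n * 5 ^ (0 - 1) = 2 ^ n := by simp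
        _ ≤ 2 ^ (2 * (n - 1)) := Nat.pow_le_pow_right (by norm_num) (by omega)
        _ = 4 ^ (n - 1) := by rw [pow_mul]; norm_num
        _ ≤ 5 ^ (n - 1) := Nat.pow_le_pow_left (by norm_num) _
    calc 2 ^ n * 5 ^ (B.card - 1) ≤ 2 ^ (2 * (n - B.card)) * 5 ^ (B.card - 1) :=
          Nat.mul_le_mul_right _ (Nat.pow_le_pow_right (by norm_num) (by omega))
      _ = 4 ^ (n - B.card) * 5 ^ (B.card - 1) := by rw [pow_mul]; norm_num
      _ ≤ 5 ^ (n - B.card) * 5 ^ (B.card - 1) := Nat.mul_le_mul_right _ (Nat.pow_le_pow_left (by norm_num) _)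
      _ = 5 ^ (n - 1) := by rw [← pow_add]; congr 1; omega
  -- blocks
  obtain ⟨B, hBblock, hBns, hBnu⟩ : ∃ B : Set α, IsBlock G B ∧ ¬ B.Subsingleton ∧ B ≠ Set.univ := by
    by_contra hno
    push Not at hno
    exact hpr { isTrivialBlock_of_isBlock := fun {B} hB =>
      (em B.Subsingleton).imp id fun h => hno B hB (Set.not_subsingleton_iff.mp h) }
  have hBne : B.Nonempty := (Set.not_subsingleton_iff.mp hBns).nonempty
  obtain ⟨b₀, hb₀⟩ := hBne
  let ι := MulAction.orbit G B
  haveI : Fintype ι := Fintype.ofFinite _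
  have hmem : ∀ x, ∃ i : ι, x ∈ i.1 := fun x => by
    obtain ⟨g, hg⟩ := MulAction.exists_smul_eq G b₀ x
    exact ⟨⟨g • B, g, rfl⟩, hg ▸ Set.smul_mem_smul_set hb₀⟩
  have huniq : ∀ {x} {i j : ι}, x ∈ i.1 → x ∈ j.1 → i = j := fun {x i j} hi hj => by
    obtain ⟨_, g, rfl⟩ := i
    obtain ⟨_, g', rfl⟩ := j
    refine Subtype.ext (hBblock.smul_eq_smul_of_nonempty ⟨x, hi, hj⟩)
  choose c hc using hmem
  have hceq : ∀ {x} {i : ι}, x ∈ i.1 → c x = i := fun h => huniq (hc _) h
  have hcsm : ∀ (g : G) x, c ((g : Perm α) x) = g • c x := fun g x =>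
    hceq (show g • x ∈ g • (c x).1 from Set.smul_mem_smul_set (hc x))
  have hfib : ∀ i : ι, Fintype.card {x // c x = i} = B.ncard := fun i => by
    rw [← Nat.card_eq_fintype_card]
    have he : {x | c x = i} = i.1 := Set.ext fun x => ⟨fun e => e ▸ hc x, hceq⟩
    rw [show Nat.card {x // c x = i} = ({x | c x = i} : Set α).ncard from rfl, he]
    obtain ⟨_, g, rfl⟩ := i
    exact Set.ncard_smul_set g B
  have hsum : n = Fintype.card ι * B.ncard := by
    rw [← hn, Fintype.card_congr (Equiv.sigmaFiberEquiv c).symm, Fintype.card_sigma,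
      Finset.sum_congr rfl fun i _ => hfib i, Finset.sum_const, Finset.card_univ, smul_eq_mul]
  have hBlt : B.ncard < n := by
    rw [← hn, ← Nat.card_eq_fintype_card, ← Set.ncard_univ]
    exact Set.ncard_lt_ncard (Set.ssubset_univ_iff.mpr hBnu)
  have hB2 : 2 ≤ B.ncard := Set.one_lt_ncard_iff_nontrivial.mpr (Set.not_subsingleton_iff.mp hBns)
  have hιlt : Fintype.card ι < n := by
    rw [hsum]
    exact lt_mul_of_one_lt_right (Fintype.card_pos_iff.mpr ⟨c b₀⟩) (by omega)
  let F : G →* Perm ι := MulAction.toPermHom G ι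
  let K : Subgroup (Perm α) := F.ker.map G.subtype
  have h1 : Nat.card (ConjClasses K) ≤ 5 ^ (n - Fintype.card ι) := by
    rw [← Finset.card_univ]
    refine le_of_invariant (ι := ι) n α hn c (fun m ⟨i, hi⟩ => ih m (by rw [hi, hfib]; exact hBlt))
      Finset.univ (fun x => Finset.mem_univ _) (fun i _ => ?_) K ?_
    · obtain ⟨_, g, rfl⟩ := i
      exact ⟨g • b₀, hceq (Set.smul_mem_smul_set hb₀)⟩
    · rintro _ ⟨g, hg, rfl⟩ x
      rw [show (G.subtype g : Perm α) x = (g : Perm α) x from rfl, hcsm]
      exact Equiv.congr_fun (MonoidHom.mem_ker.mp hg) (c x)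
  have h2 : Nat.card (ConjClasses F.range) ≤ 5 ^ (Fintype.card ι - 1) := ih _ hιlt ι rfl _
  calc Nat.card (ConjClasses G) ≤ Nat.card (ConjClasses F.ker) * Nat.card (ConjClasses (G ⧸ F.ker)) :=
        Cfsg.Agent.S4201.result F.ker
    _ = Nat.card (ConjClasses K) * Nat.card (ConjClasses F.range) := by
        rw [card_classes_congr (QuotientGroup.quotientKerEquivRange F),
          card_classes_congr (F.ker.equivMapOfInjective G.subtype G.subtype_injective)]
    _ ≤ 5 ^ (n - Fintype.card ι) * 5 ^ (Fintype.card ι - 1) := Nat.mul_le_mul h1 h2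
    _ = 5 ^ (n - 1) := by
        rw [← pow_add]
        congr 1
        have := Fintype.card_pos_iff.mpr ⟨c b₀⟩
        omega

end CfsgLib.ClassBound
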